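import Cfsg.Agent.H803.EP.Base
import Cfsg.Agent.H775.EP.ModelOmega
import Cfsg.Agent.H351.OE.Alt
import Cfsg.Agent.S0265
import Cfsg.Agent.S0242
import Cfsg.Agent.S0292
import Cfsg.Agent.S0813
import Cfsg.Agent.S2143
import Cfsg.Agent.S5860

/-!
# S3499, the row `Ω₁₁(q)` (helper803)

The residual class (S5860): `PSL₃(3)` (`q = 13`) and `PSL₂(q)` (own characteristic) are killed by the base size criterion
`|A|² < P(Q)`, `P(Q) = (q¹⁰ - 1)/(q - 1)` the minimal index of a proper subgroup; for `A₁₂` and `A₁₃` an index bound is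
taken as a hypothesis.
-/

set_option autoImplicit false

namespace Cfsg.Agent.H803.EPB

open Subgroup Cfsg Cfsg.Agent.H284 Cfsg.Agent.H419.EP

/-- `|Aut PSL₂(q)|² < q⁹` -/
theorem sq_psl_two {F : Type*} [Field F] [Fintype F] {p : ℕ} (hp : p.Prime) [CharP F p] (h11 : 11 ≤ p) :
    Nat.card (MulAut (Matrix.ProjectiveSpecialLinearGroup (Fin 2) F)) ^ 2 < Fintype.card F ^ 9 := by
  haveI : Fact p.Prime := ⟨hp⟩
  obtain ⟨f, _, hF⟩ := FiniteField.card F p
  have h1 := Cfsg.Agent.S0813.result p f f.2 hF 2 le_rfl (fun _ => by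
    calc 4 ≤ p := by omega
      _ = p ^ 1 := (pow_one p).symm
      _ ≤ _ := Nat.pow_le_pow_right hp.pos f.2)
  rw [if_pos rfl, one_mul, Cfsg.Agent.S0265.result] at h1
  have h2 := Cfsg.Agent.S0242.result (F := F) rfl 2 (by norm_num)
  rw [Fin.prod_univ_two] at h2
  set q := Fintype.card F with hq
  have hfq : (f : ℕ) < q := by
    rw [hF]
    exact Nat.lt_pow_self hp.one_lt
  have hq11 : 11 ≤ q := by
    rw [hF]
    calc 11 ≤ p := h11
      _ = p ^ 1 := (pow_one p).symm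
      _ ≤ _ := Nat.pow_le_pow_right hp.pos f.2
  have h3 : Nat.card (Matrix.SpecialLinearGroup (Fin 2) F) ≤ q ^ 3 := by
    have h4 : (q - 1) * Nat.card (Matrix.SpecialLinearGroup (Fin 2) F) ≤ (q - 1) * q ^ 3 := by
      rw [h2]
      simp only [Fin.val_zero, pow_zero, Fin.val_one, pow_one]
      have e : q ^ 2 - q = (q - 1) * q := by rw [Nat.sub_mul, one_mul, sq]
      rw [e]
      calc (q ^ 2 - 1) * ((q - 1) * q) ≤ q ^ 2 * ((q - 1) * q) := Nat.mul_le_mul_right _ (Nat.sub_le _ _)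
        _ = (q - 1) * q ^ 3 := by ring
    exact Nat.le_of_mul_le_mul_left h4 (by omega)
  have hf2 : (f : ℕ) ^ 2 < q ^ 3 := by
    calc (f : ℕ) ^ 2 < q ^ 2 := Nat.pow_lt_pow_left hfq (by norm_num)
      _ ≤ q ^ 3 := Nat.pow_le_pow_right (by omega) (by norm_num)
  rw [h1]
  calc ((f : ℕ) * Nat.card (Matrix.SpecialLinearGroup (Fin 2) F)) ^ 2
      = (f : ℕ) ^ 2 * Nat.card (Matrix.SpecialLinearGroup (Fin 2) F) ^ 2 := by ring
    _ ≤ (f : ℕ) ^ 2 * (q ^ 3) ^ 2 := Nat.mul_le_mul_left _ (Nat.pow_le_pow_left h3 2)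
    _ < q ^ 3 * (q ^ 3) ^ 2 := Nat.mul_lt_mul_of_pos_right hf2 (by positivity)
    _ = q ^ 9 := by ring

/-- `|Aut PSL₃(3)| = 11232` -/
theorem card_aut_psl_three_three : Nat.card (MulAut (Matrix.ProjectiveSpecialLinearGroup (Fin 3) (ZMod 3))) = 11232 := by
  haveI : Fact (Nat.Prime 3) := ⟨Nat.prime_three⟩
  have h1 := Cfsg.Agent.S0813.result (F := ZMod 3) 3 1 le_rfl (by rw [ZMod.card, pow_one]) 3 (by norm_num)
    (fun h => absurd h (by norm_num))
  rw [if_neg (by norm_num), Cfsg.Agent.S0265.result] at h1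
  have h2 := Cfsg.Agent.S0242.result (F := ZMod 3) (ZMod.card 3) 3 (by norm_num)
  rw [Fin.prod_univ_three] at h2
  generalize Nat.card (Matrix.SpecialLinearGroup (Fin 3) (ZMod 3)) = c at h1 h2
  norm_num at h2
  rw [h1]
  omega

section

variable {Q : Type} [Group Q] [Finite Q] {A : Subgroup Q} {Γ : Subgroup (MulAut Q)} {F : Type} [Field F] [Fintype F]

/-- the minimal index in `Ω₁₁(q)` -/
theorem pow_nine_le (hodd : Odd (Fintype.card F)) (h5 : 5 ≤ Fintype.card F) (hs : IsSimpleGroup Q) (h : EPT A Γ)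
    (m : Model Q (Geo.omegaGL (quadFormOdd 5 F))) : Fintype.card F ^ 9 ≤ Nat.card A ^ 2 := by
  obtain ⟨m'⟩ := Cfsg.Agent.H775.EP.model_odd 5 (by norm_num) F (Cfsg.Agent.H775.EP.two_ne_zero_of_odd hodd)
  obtain ⟨e⟩ := model_equiv m m'
  refine minIndex_le_sq h (center_eq_bot hs h) ?_
  intro H hH
  have h1 := (Cfsg.Agent.S2143.result (F := F) rfl hodd h5 5 (by norm_num)).1 (H.map e.toMonoidHom) ?_
  · have h2 : (H.map e.toMonoidHom).index = H.index := Subgroup.index_map_of_bijective e.bijective H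
    rw [h2] at h1
    refine le_trans ?_ h1
    rw [Nat.le_div_iff_mul_le (by omega)]
    have : Fintype.card F ^ 9 * (Fintype.card F - 1) = Fintype.card F ^ 10 - Fintype.card F ^ 9 := by
      rw [Nat.mul_sub, mul_one, ← pow_succ]
    rw [this]
    exact Nat.sub_le_sub_left (Nat.one_le_pow _ _ (by omega)) _
  · intro h2
    apply hH
    rw [← Subgroup.index_eq_one] at h2 ⊢
    exact (Subgroup.index_map_of_bijective e.bijective H).symm.trans h2

omit [Finite Q] in
/-- the order of `Ω₁₁(q)` -/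
theorem card_eq (hodd : Odd (Fintype.card F)) (m : Model Q (Geo.omegaGL (quadFormOdd 5 F))) :
    2 * Nat.card Q = Fintype.card F ^ 25 * ∏ i ∈ Finset.range 5, (Fintype.card F ^ (2 * (i + 1)) - 1) := by
  obtain ⟨m'⟩ := Cfsg.Agent.H775.EP.model_odd 5 (by norm_num) F (Cfsg.Agent.H775.EP.two_ne_zero_of_odd hodd)
  obtain ⟨e⟩ := model_equiv m m'
  rw [Nat.card_congr e.toEquiv]
  exact Cfsg.Agent.S0292.result (F := F) rfl hodd 5 (by norm_num)

/-- **the row `Ω₁₁(q)`, residual class** -/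
theorem row_om_eleven (hs : IsSimpleGroup Q) (h : EPT A Γ) (hodd : Odd (Fintype.card F))
    (m : Model Q (Geo.omegaGL (quadFormOdd 5 F))) (hres : Geo.InOrthogonalResidualClass (m.hat A))
    (h12 : HasSoc A (alternatingGroup (Fin 12)) → A.index < 2 ^ 97)
    (h13 : HasSoc A (alternatingGroup (Fin 13)) → A.index < 2 ^ 169) : False := by
  obtain ⟨P, p, hP, hp, hch, hl⟩ := Cfsg.Agent.S5860.result hodd (m.hat A) (m.isMaximalIn h.max) hres
  have hsoc := hasSoc_of_core m hP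
  have hcard := card_eq hodd m
  have hle := fun h5 => pow_nine_le hodd h5 hs h m
  rcases hl with ⟨⟨e⟩, hq⟩ | ⟨⟨e⟩, hq, h5, -⟩ | ⟨⟨e⟩, hq⟩ | ⟨⟨e⟩, h11, -⟩
  · -- `PSL₃(3)`
    have h1 := hle (by rw [hq]; norm_num)
    have h2 := (hsoc.congr e).card_le
    rw [card_aut_psl_three_three] at h2
    have h3 := Nat.pow_le_pow_left h2 2
    have h4 := h1.trans h3
    rw [hq] at h4
    norm_num at h4
  · -- `A₁₂`
    have h1 := h12 (hsoc.congr e)
    have h2 := (hsoc.congr e).card_le.trans (Nat.le_of_dvd (Nat.factorial_pos _)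
      (Cfsg.Agent.H351.OE.card_aut_alt (n := 12) (by norm_num)))
    have h3 : Nat.card Q ≤ Nat.factorial 12 * 2 ^ 97 := by
      rw [← A.card_mul_index]
      exact Nat.mul_le_mul h2 h1.le
    have hq5 : 5 ≤ Fintype.card F := by rw [hq]; exact h5
    have h4 : 5 ^ 25 * ∏ i ∈ Finset.range 5, (5 ^ (2 * (i + 1)) - 1) ≤ 2 * Nat.card Q := by
      rw [hcard]
      refine Nat.mul_le_mul (Nat.pow_le_pow_left hq5 _) (Finset.prod_le_prod' fun i _ => ?_)
      exact Nat.sub_le_sub_right (Nat.pow_le_pow_left hq5 _) _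
    have h5 := h4.trans (Nat.mul_le_mul_left 2 h3)
    revert h5
    norm_num [Finset.prod_range_succ, Nat.factorial]
  · -- `A₁₃`
    have h1 := h13 (hsoc.congr e)
    have h2 := (hsoc.congr e).card_le.trans (Nat.le_of_dvd (Nat.factorial_pos _)
      (Cfsg.Agent.H351.OE.card_aut_alt (n := 13) (by norm_num)))
    have h3 : Nat.card Q ≤ Nat.factorial 13 * 2 ^ 169 := by
      rw [← A.card_mul_index]
      exact Nat.mul_le_mul h2 h1.le
    rw [hq] at hcard
    have h5 := Nat.mul_le_mul_left 2 h3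
    rw [hcard] at h5
    revert h5
    norm_num [Finset.prod_range_succ, Nat.factorial]
  · -- `PSL₂(q)`
    haveI := hch
    have hq5 : 5 ≤ Fintype.card F := by
      haveI : Fact p.Prime := ⟨hp⟩
      obtain ⟨f, _, hF⟩ := FiniteField.card F p
      rw [hF]
      calc 5 ≤ p := by omega
        _ = p ^ 1 := (pow_one p).symm
        _ ≤ _ := Nat.pow_le_pow_right hp.pos f.2
    have h1 := hle hq5
    have h2 := (hsoc.congr e).card_le
    have h3 := Nat.pow_le_pow_left h2 2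
    exact absurd (h1.trans h3) (not_le.2 (sq_psl_two hp h11))

end

end Cfsg.Agent.H803.EPB
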