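import Cfsg.Agent.H803.EP.RowOmEleven
import Cfsg.Agent.H59.EP.UBGen
import Cfsg.Agent.H173.EP.LineBound

/-!
# S3499, the row `Ω₁₁(q)` without the hypotheses on `A₁₂` and `A₁₃` (helper803)

The index bounds come from helper59's count `EPT.ncard_le_gen_dvd` and helper173's `ub1`; the only hypothesis left is `TwoGen`
(S3948).
-/

set_option autoImplicit false

namespace Cfsg.Agent.H803.EPB

open Subgroup Cfsg Cfsg.Agent.H284 Cfsg.Agent.H419.EP

variable {Q : Type} [Group Q] [Finite Q] {A : Subgroup Q} {Γ : Subgroup (MulAut Q)}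

/-- the general index bound of helper59 and helper173, socle `A_n` -/
theorem index_le_alt (hg : H59.EP.TwoGen.{0}) (hs : IsSimpleGroup Q) (h : EPT A Γ) {n : ℕ} (hn : 7 ≤ n)
    (hsoc : HasSoc A (alternatingGroup (Fin n)))
    (l : List (ℕ × ℕ)) (h1 : ∀ x ∈ l, x.1.Prime ∧ 0 < x.2) (h2 : (l.map Prod.fst).Nodup)
    (hc : (l.map fun x => x.1 ^ x.2).prod = Nat.factorial n) (hB : (l.map fun x => x.1 ^ x.2).prod < 60 ^ 61) :
    A.index ≤ 1 + ((l.map fun x => H59.EP.gal x.1 x.2).sum * ((l.map fun x => x.1 ^ x.2).prod / 6) +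
        (l.map fun x => x.1 ^ x.2).prod ^ 2 / 60 + (l.map fun x => x.1 ^ x.2).prod ^ 3 / 12744000) *
          (2 * ((l.map fun x => x.1 ^ x.2).prod / 6)) := by
  have hL : IsSimpleGroup (alternatingGroup (Fin n)) := by
    exact alternatingGroup.isSimpleGroup (by rw [Nat.card_fin]; omega)
  have hLn : ¬ ∀ a b : alternatingGroup (Fin n), a * b = b * a := by
    intro hab
    have h3 := hL.1
    let _ : CommGroup (alternatingGroup (Fin n)) := { (inferInstance : Group _) with mul_comm := hab }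
    have h4 : (Nat.card (alternatingGroup (Fin n))).Prime := IsSimpleGroup.prime_card
    have h5 : 2 * Nat.card (alternatingGroup (Fin n)) = Nat.factorial n := by
      have h8 : Nontrivial (Fin n) := Fin.nontrivial_iff_two_le.mpr (by omega)
      have h9 := two_mul_nat_card_alternatingGroup (α := Fin n)
      rwa [Nat.card_perm, Nat.card_fin] at h9
    have h6 : 60 ∣ Nat.card (alternatingGroup (Fin n)) := by
      have h7 : Nat.factorial 5 ∣ Nat.factorial n := Nat.factorial_dvd_factorial (by omega)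
      rw [← h5, show Nat.factorial 5 = 2 * 60 from rfl] at h7
      exact Nat.dvd_of_mul_dvd_mul_left (by norm_num) h7
    have h7 := (Nat.prime_dvd_prime_iff_eq Nat.prime_two h4).1 (dvd_trans (by norm_num) h6)
    rw [← h7] at h6
    revert h6
    decide
  have hd : Nat.card A ∣ (l.map fun x => x.1 ^ x.2).prod := by
    obtain ⟨f, hf⟩ := hsoc.exists_hom
    rw [hc]
    exact (Subgroup.card_dvd_of_injective f hf).trans (Cfsg.Agent.H351.OE.card_aut_alt (by omega))
  have hB0 : 0 < (l.map fun x => x.1 ^ x.2).prod := by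
    rw [hc]; exact Nat.factorial_pos n
  have hab : ∀ K : Subgroup Q, K ≤ A → (∀ a ∈ A, ∀ k ∈ K, a * k * a⁻¹ ∈ K) → (∀ a ∈ K, ∀ b ∈ K, a * b = b * a) → K = ⊥ :=
    fun K hK hKn hKab => hsoc.no_abelian hL hLn hK hKn hKab
  have h3 := H59.EP.index_le_of (H59.EP.EPT.ncard_le_gen_dvd h hg hab l h1 h2 hd hB)
    (Cfsg.Agent.H173.EP.ub1 hs h (by norm_num) fun _ hx => H59.EP.EPT.six_le h hab hx) le_rfl
  refine h3.trans (Nat.add_le_add_left (Nat.mul_le_mul_left _ (Nat.mul_le_mul_left _ ?_)) _)
  exact Nat.div_le_div_right (Nat.le_of_dvd hB0 hd)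

theorem index_alt12 (hg : H59.EP.TwoGen.{0}) (hs : IsSimpleGroup Q) (h : EPT A Γ)
    (hsoc : HasSoc A (alternatingGroup (Fin 12))) : A.index < 2 ^ 97 := by
  have h1 := index_le_alt hg hs h (n := 12) (by norm_num) hsoc [(2, 10), (3, 5), (5, 2), (7, 1), (11, 1)]
    (by
      intro x hx
      simp only [List.mem_cons, List.not_mem_nil, or_false] at hx
      rcases hx with rfl | rfl | rfl | rfl | rfl <;> norm_num) (by decide) (by decide) (by norm_num)
  refine lt_of_le_of_lt h1 ?_
  decide +kernel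

theorem index_alt13 (hg : H59.EP.TwoGen.{0}) (hs : IsSimpleGroup Q) (h : EPT A Γ)
    (hsoc : HasSoc A (alternatingGroup (Fin 13))) : A.index < 2 ^ 169 := by
  have h1 := index_le_alt hg hs h (n := 13) (by norm_num) hsoc
    [(2, 10), (3, 5), (5, 2), (7, 1), (11, 1), (13, 1)]
    (by
      intro x hx
      simp only [List.mem_cons, List.not_mem_nil, or_false] at hx
      rcases hx with rfl | rfl | rfl | rfl | rfl | rfl <;> norm_num) (by decide) (by decide) (by norm_num)
  refine lt_of_le_of_lt h1 ?_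
  decide +kernel

/-- **the row `Ω₁₁(q)`, residual class** -/
theorem row_om_eleven_of (hg : H59.EP.TwoGen.{0}) (hs : IsSimpleGroup Q) (h : EPT A Γ) {F : Type} [Field F] [Fintype F]
    (hodd : Odd (Fintype.card F)) (m : Model Q (Geo.omegaGL (quadFormOdd 5 F)))
    (hres : Geo.InOrthogonalResidualClass (m.hat A)) : False :=
  row_om_eleven hs h hodd m hres (index_alt12 hg hs h) (index_alt13 hg hs h)

end Cfsg.Agent.H803.EPB
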